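import Cfsg.Agent.H492.IMPair
import Cfsg.Agent.H7.NBpComp

/-!
# Nonprincipal `p`-blocks: tools for the sporadic rows of S5003 (helper536)

* `NB_of_IM` : `p ∣ |G|`, not `p ^ 2`, and some irreducible character of degree divisible by `p`.
* `NB_of_hasDZ` : a character of defect zero.
* `NB_of_center` : from a quotient of `C_G(x)`.
* `NB_of_pair` : `x`, `y` of order `p` commute, generate a group of order `p ^ 2` which contains the
  centralizer of `⟨x, y⟩` up to `p`-elements, and `|C_G(x)| = p ^ 2 * m`.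
* `IM_factor` : the degree of a character and its `p`-part.
-/

set_option autoImplicit false

open Cfsg Cfsg.Agent.Characters.Core Cfsg.Agent.Blocks.Basic
open Cfsg.Agent.H713 Cfsg.Agent.H713.Count Cfsg.Agent.H33 Cfsg.Agent.H665.NoPQ
open Cfsg.Agent.H492.IMTools

namespace Cfsg.Agent.H536.NB.Tools

open Cfsg.Agent.H7.NBp

universe u v

variable {G : Type u} [Group G] {p : ℕ} [hp : Fact p.Prime]

/-- a character of defect zero -/
theorem NB_of_hasDZ [Finite G] (h : HasDZ p G) (hd : p ∣ Nat.card G) : NB p G := by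
  obtain ⟨χ, hχ⟩ := h
  have hn0 : Nat.card G ≠ 0 := Nat.card_pos.ne'
  have hc0 : charDegree (χ : G → ℂ) ≠ 0 := (charDegree_pos χ.2).ne'
  have h1 : 1 ≤ (Nat.card G).factorization p := (hp.out.dvd_iff_one_le_factorization hn0).1 hd
  refine NB.of_dz' χ ?_ ?_
  · intro h
    rw [h, Nat.factorization_one] at hχ
    rw [← hχ] at h1
    exact absurd h1 (by simp)
  · intro h
    have hdvd : charDegree (χ : G → ℂ) ∣ Nat.card G := Cfsg.Agent.Blocks.Knorr.charDegree_dvd χ.2
    obtain ⟨k, hk⟩ := hdvd
    have hk0 : k ≠ 0 := by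
      rintro rfl
      rw [mul_zero] at hk
      exact hn0 hk
    rw [hk, Nat.mul_div_cancel_left _ (Nat.pos_of_ne_zero hc0)] at h
    rw [hk, Nat.factorization_mul hc0 hk0, Finsupp.add_apply] at hχ
    have h2 := (hp.out.dvd_iff_one_le_factorization hk0).1 h
    omega

/-- Itô-Michler and Sylow `p`-subgroups of order `p` -/
theorem NB_of_IM [Finite G] (h : IM p G) (h2 : ¬ p ^ 2 ∣ Nat.card G) : NB p G := by
  obtain ⟨χ, hχ⟩ := h
  have hn0 : Nat.card G ≠ 0 := Nat.card_pos.ne'
  have hc0 : charDegree (χ : G → ℂ) ≠ 0 := (charDegree_pos χ.2).ne'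
  have hdvd : charDegree (χ : G → ℂ) ∣ Nat.card G := Cfsg.Agent.Blocks.Knorr.charDegree_dvd χ.2
  have hd : p ∣ Nat.card G := hχ.trans hdvd
  refine NB_of_hasDZ ⟨χ, ?_⟩ hd
  have h3 : (Nat.card G).factorization p < 2 := by
    by_contra hcon
    push Not at hcon
    exact h2 ((hp.out.pow_dvd_iff_le_factorization hn0).2 hcon)
  have h4 := (hp.out.dvd_iff_one_le_factorization hc0).1 hχ
  have h5 : (charDegree (χ : G → ℂ)).factorization p ≤ (Nat.card G).factorization p :=
    (Nat.factorization_le_iff_dvd hc0 hn0).2 hdvd p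
  omega

/-- from a quotient of the centralizer by a central subgroup -/
theorem NB_of_center [Finite G] {x : G} (hx : orderOf x = p) {H : Type v} [Group H]
    (f : Subgroup.centralizer ({x} : Set G) →* H) (hf : Function.Surjective f)
    (hker : f.ker ≤ Subgroup.center _) (h : NB p H) : NB p G := by
  refine NB.of_centralizer_singleton x ⟨1, ?_⟩ (NB.of_surjective f hf hker h)
  rw [pow_one, ← hx, pow_orderOf_eq_one]

/-- **two commuting elements of order `p`** -/
theorem NB_of_pair [Finite G] {x y : G} (hx : orderOf x = p) (hy : orderOf y = p)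
    (hcomm : y * x = x * y) (hyx : y ∉ Subgroup.zpowers x)
    (hxy : ∀ q : ℕ, q.Prime → q ≠ p →
      ¬ q ∣ Nat.card ↥(Subgroup.centralizer ({x} : Set G) ⊓ Subgroup.centralizer ({y} : Set G)))
    {m : ℕ} (hC : Nat.card (Subgroup.centralizer ({x} : Set G)) = p ^ 2 * m) (hpm : ¬ p ∣ m)
    (s : Finset ℕ) (hs : ∀ n ∈ s, ¬ p ∣ n ∧ ∃ g : G, g * x = x * g ∧ orderOf g = n)
    (hcard : m % p ∣ p - 1 → m % p < s.card) : NB p G := by
  classical
  set C := Subgroup.centralizer ({x} : Set G) with hCdef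
  set z : C := ⟨x, Subgroup.mem_centralizer_singleton_iff.2 rfl⟩ with hz
  set y' : C := ⟨y, Subgroup.mem_centralizer_singleton_iff.2 hcomm⟩ with hy'
  have hzo : orderOf z = p := by rw [hz, Subgroup.orderOf_mk, hx]
  have hyo : orderOf y' = p := by rw [hy', Subgroup.orderOf_mk, hy]
  have hzc : ∀ c : C, c * z = z * c := fun c =>
    Subtype.ext (Subgroup.mem_centralizer_singleton_iff.1 c.2)
  have hnorm : (Subgroup.zpowers z).Normal := by
    refine ⟨fun n hn g => ?_⟩
    obtain ⟨k, rfl⟩ := hn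
    have : g * z ^ k * g⁻¹ = z ^ k := by
      rw [((show Commute g z from hzc g).zpow_right k).eq, mul_inv_cancel_right]
    show g * z ^ k * g⁻¹ ∈ _
    rw [this]
    exact ⟨k, rfl⟩
  have hm : m ≠ 0 := by rintro rfl; exact hpm (dvd_zero _)
  -- the quotient
  have hH : Nat.card (C ⧸ Subgroup.zpowers z) = p * m := by
    have h1 := Subgroup.card_eq_card_quotient_mul_card_subgroup (Subgroup.zpowers z)
    rw [hC, Nat.card_zpowers, hzo] at h1
    have h2 : p * (p * m) = p * Nat.card (C ⧸ Subgroup.zpowers z) := by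
      rw [mul_comm p (Nat.card _), ← h1]; ring
    exact (Nat.eq_of_mul_eq_mul_left hp.out.pos h2).symm
  have hHf : (Nat.card (C ⧸ Subgroup.zpowers z)).factorization p = 1 := by
    rw [hH, Nat.factorization_mul hp.out.ne_zero hm, Finsupp.add_apply,
      hp.out.factorization_self, Nat.factorization_eq_zero_of_not_dvd hpm]
  have hyb : orderOf (QuotientGroup.mk y' : C ⧸ Subgroup.zpowers z) = p := by
    apply orderOf_eq_prime
    · have : (QuotientGroup.mk y' : C ⧸ Subgroup.zpowers z) ^ p = QuotientGroup.mk (y' ^ p) := rfl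
      rw [this, ← hyo, pow_orderOf_eq_one]
      rfl
    · intro h
      rw [QuotientGroup.eq_one_iff] at h
      obtain ⟨k, hk⟩ := h
      apply hyx
      refine ⟨k, ?_⟩
      have := congrArg Subtype.val hk
      exact this
  have hq : ∀ q : ℕ, q.Prime → q ≠ p → ¬ q ∣ Nat.card (Subgroup.centralizer ({y'} : Set C)) := by
    intro q hq hne hd
    refine hxy q hq hne (hd.trans (dvd_of_eq ?_))
    apply Nat.card_congr
    refine
      { toFun := fun c => ⟨c.1.1, c.1.2, ?_⟩
        invFun := fun c => ⟨⟨c.1, c.2.1⟩, ?_⟩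
        left_inv := fun _ => rfl
        right_inv := fun _ => rfl }
    · have h1 := Subgroup.mem_centralizer_singleton_iff.1 c.2
      exact Subgroup.mem_centralizer_singleton_iff.2 (congrArg Subtype.val h1)
    · rw [Subgroup.mem_centralizer_singleton_iff]
      exact Subtype.ext (Subgroup.mem_centralizer_singleton_iff.1 c.2.2)
  have hpg := isPGroup_centralizer_mk (p := p) (by rw [← hzo]; exact pow_orderOf_eq_one z) hzc hq
  have hcb : Nat.card (Subgroup.centralizer
      ({(QuotientGroup.mk y' : C ⧸ Subgroup.zpowers z)} : Set (C ⧸ Subgroup.zpowers z))) = p := by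
    obtain ⟨k, hk⟩ := IsPGroup.iff_card.1 hpg
    have h1 : p ∣ p ^ k := by
      rw [← hk, ← hyb, ← Subgroup.orderOf_mk _ (Subgroup.mem_centralizer_singleton_iff.2 rfl)]
      exact orderOf_dvd_natCard _
    have h2 : p ^ k ∣ p * m := by rw [← hk, ← hH]; exact Subgroup.card_subgroup_dvd_card _
    have h3 : k = 1 := by
      rcases Nat.lt_trichotomy k 1 with h | h | h
      · have : k = 0 := by omega
        rw [this, pow_zero] at h1
        exact absurd (Nat.le_of_dvd one_pos h1) (by have := hp.out.one_lt; omega)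
      · exact h
      · exfalso
        apply hpm
        have h4 : p ^ 2 ∣ p * m := (pow_dvd_pow p h).trans h2
        rw [pow_two] at h4
        exact Nat.dvd_of_mul_dvd_mul_left hp.out.pos h4
    rw [hk, h3, pow_one]
  have hdiv : Nat.card (C ⧸ Subgroup.zpowers z) / p = m := by
    rw [hH, Nat.mul_div_cancel_left _ hp.out.pos]
  have hlt : m % p < s.card := by
    apply hcard
    have h1 := card_fus_eq hHf hyb (c := 1) (by rw [hcb, mul_one]) (e := m % p) (by
      intro k hk h
      rw [mul_one, hdiv, Nat.mod_eq_of_lt hk] at h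
      exact h)
    exact Dvd.intro _ h1.2
  refine NB_of_center hx (QuotientGroup.mk' (Subgroup.zpowers z))
    (QuotientGroup.mk'_surjective _) ?_ (NB_of_hasDZ (hasDZ_of_orders hHf hyb hcb s ?_
      (by rw [hdiv]; exact hlt)) (by rw [hH]; exact Dvd.intro _ rfl))
  · rw [QuotientGroup.ker_mk', Subgroup.zpowers_le, Subgroup.mem_center_iff]
    exact hzc
  · intro n hn
    obtain ⟨h1, g, hg, hgn⟩ := hs n hn
    refine ⟨h1, QuotientGroup.mk ⟨g, Subgroup.mem_centralizer_singleton_iff.2 hg⟩, ?_⟩
    set g' : C := ⟨g, Subgroup.mem_centralizer_singleton_iff.2 hg⟩ with hg'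
    have hgo : orderOf g' = n := by rw [hg', Subgroup.orderOf_mk, hgn]
    have h2 : orderOf (QuotientGroup.mk g' : C ⧸ Subgroup.zpowers z) ∣ n := by
      rw [← hgo]
      exact orderOf_map_dvd (QuotientGroup.mk' (Subgroup.zpowers z)) g'
    apply Nat.dvd_antisymm h2
    set o := orderOf (QuotientGroup.mk g' : C ⧸ Subgroup.zpowers z) with ho
    have h3 : g' ^ o ∈ Subgroup.zpowers z := by
      rw [← QuotientGroup.eq_one_iff]
      have : (QuotientGroup.mk (g' ^ o) : C ⧸ Subgroup.zpowers z) =
        (QuotientGroup.mk g' : C ⧸ Subgroup.zpowers z) ^ o := rfl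
      rw [this, ho, pow_orderOf_eq_one]
    have h4 : (g' ^ o) ^ p = 1 := by
      obtain ⟨k, hk⟩ := h3
      rw [← hk]
      show (z ^ k) ^ p = 1
      rw [← zpow_natCast, ← zpow_mul, mul_comm, zpow_mul, zpow_natCast, ← hzo, pow_orderOf_eq_one,
        one_zpow]
    rw [← pow_mul] at h4
    have h5 := orderOf_dvd_of_pow_eq_one h4
    rw [hgo] at h5
    have hcop : Nat.Coprime n p := by
      rw [Nat.coprime_comm, Nat.Prime.coprime_iff_not_dvd hp.out]; exact h1
    exact hcop.dvd_of_dvd_mul_right h5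

end Cfsg.Agent.H536.NB.Tools
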