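import Cfsg.Agent.H536.NB.Tools
import Cfsg.Agent.H978.NB.Char

/-!
# Nonprincipal `p`-blocks: small lemmas (helper536)
-/

set_option autoImplicit false

namespace Cfsg.Agent.H536.NB.Rows

open Cfsg Cfsg.Agent.H33 Cfsg.Agent.H7.NBp Cfsg.Agent.H718.NBIH Cfsg.Agent.H536.NB.Tools

theorem not_comm_of_four {S : Type*} [Group S] [Finite S] [IsSimpleGroup S] (h : 4 ∣ Nat.card S) :
    ¬ IsMulCommutative S := by
  intro hc
  let _ : CommGroup S := { ‹Group S› with mul_comm := hc.is_comm.comm }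
  have hp : (Nat.card S).Prime := IsSimpleGroup.prime_card (α := S)
  have h2 : (2 : ℕ) ∣ Nat.card S := (by norm_num : (2 : ℕ) ∣ 4).trans h
  have h3 := (Nat.prime_dvd_prime_iff_eq Nat.prime_two hp).1 h2
  rw [← h3] at h
  norm_num at h

end Cfsg.Agent.H536.NB.Rows
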