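import Cfsg.Agent.H870.IMRu
import Cfsg.Agent.H536.NB.Rows

/-!
# `Ru` has a nonprincipal `p`-block, `p` odd (helper536)

`p = 3, 5`: elements of order 15 (class 5B, `|C(x)| = 300`). `p = 7, 13, 29`: Itô-Michler.
-/

set_option autoImplicit false
set_option maxRecDepth 100000

namespace Cfsg.Agent.H536.NB.Ru

open Cfsg Cfsg.Agent.H33 Subgroup Cfsg.Agent.H870.IMR3 Cfsg.Agent.H870.IMLocal
open Cfsg.Agent.SporadicB Cfsg.Agent.RuD.Letters Cfsg.Agent.SporRec.TCUpperCert
open Cfsg.Agent.KFacts.Ru Cfsg.Agent.KFacts.Ru.CentEng Cfsg.Agent.CpAutRuFive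
open Cfsg.Agent.H870.IMRu
open Cfsg.Agent.H7.NBp Cfsg.Agent.H718.NBIH Cfsg.Agent.H536.NB.Tools Cfsg.Agent.H536.NB.Rows
open Cfsg.Agent.CpAutRuFive.Cert

theorem chk34 : Nat.beq (evalK [0, 4] 0) 0 = false ∨ Nat.beq (evalK [0, 4] 1) 1 = false := by decide +kernel

theorem ord3 : orderOf (wprod ml [0, 4] : RuOrder.H) = 3 := by
  have : Fact (Nat.Prime 3) := ⟨Nat.prime_three⟩
  have hr := rel_of_chk chkY
  have hB : wprod ml [0, 4, 0, 4, 0, 4] = (1 : RuOrder.H) := hr _ (by simp)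
  have e2 : wprod ml [0, 4, 0, 4, 0, 4] = (wprod ml [0, 4] : RuOrder.H) ^ 3 := by
    rw [show ([0, 4, 0, 4, 0, 4] : List ℕ) = [0, 4] ++ ([0, 4] ++ [0, 4]) from rfl, wprod_append, wprod_append]
    simp only [pow_succ, pow_zero, one_mul, mul_assoc]
  apply orderOf_eq_prime (e2.symm.trans hB)
  intro h1
  rcases chk34 with h4 | h4
  · have h2 := evalK_eq [0, 4] ⟨0, by norm_num⟩
    rw [h1] at h2
    have h3 : evalK [0, 4] 0 = 0 := h2.symm
    rw [h3] at h4
    exact absurd h4 (by decide)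
  · have h2 := evalK_eq [0, 4] ⟨1, by norm_num⟩
    rw [h1] at h2
    have h3 : evalK [0, 4] 1 = 1 := h2.symm
    rw [h3] at h4
    exact absurd h4 (by decide)

theorem comm35 : (wprod ml [0, 4] : RuOrder.H) * wprod ml wB = wprod ml wB * wprod ml [0, 4] := by
  have hcb := eq_of_chkEq chkCb
  rwa [wprod_append, wprod_append] at hcb

theorem nb3 [Fact (Nat.Prime 3)] [IsSimpleGroup RuOrder.H] (ih : IH 3 (Nat.card RuOrder.H)) : NB 3 RuOrder.H := by
  have := finite_H
  refine H978.NB.nb_of_commute (y := wprod ml [0, 4]) (z := wprod ml wB) (r := 5) (a := 3)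
    (not_comm_of_four ?_) ih ord3 (by norm_num) (by norm_num) orderB comm35.symm ?_ ?_
  · rw [SporadicB.RuOrder.card_H]; norm_num
  · intro h
    have h1 := h.trans (card_subgroup_dvd_card _)
    rw [SporadicB.RuOrder.card_H] at h1
    norm_num at h1
  · intro j h1 h2
    obtain rfl | rfl : j = 1 ∨ j = 2 := by omega
    · norm_num
    · norm_num

theorem nb5 [Fact (Nat.Prime 5)] [IsSimpleGroup RuOrder.H] (ih : IH 5 (Nat.card RuOrder.H)) : NB 5 RuOrder.H := by
  have := finite_H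
  refine H978.NB.nb_of_commute (y := wprod ml wB) (z := wprod ml [0, 4]) (r := 3) (a := 2)
    (not_comm_of_four ?_) ih orderB (by norm_num) (by norm_num) ord3 comm35 ?_ ?_
  · rw [SporadicB.RuOrder.card_H]; norm_num
  · intro h
    have hle := cardB
    have h0 : 0 < Nat.card ↥(centralizer ({(wprod ml wB : RuOrder.H)} : Set RuOrder.H)) := Nat.card_pos
    have h3 : 3 ∣ Nat.card ↥(centralizer ({(wprod ml wB : RuOrder.H)} : Set RuOrder.H)) := by
      have h1 : (wprod ml [0, 4] : RuOrder.H) ∈ centralizer ({(wprod ml wB : RuOrder.H)} : Set RuOrder.H) :=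
        mem_centralizer_singleton_iff.2 comm35
      rw [← ord3, ← Subgroup.orderOf_mk _ h1]
      exact orderOf_dvd_natCard _
    omega
  · intro j h1 h2
    obtain rfl : j = 1 := by omega
    norm_num

/-- **`Ru` has a nonprincipal `p`-block, `p` odd.** -/
theorem nb_ru {p : ℕ} [hp : Fact p.Prime] (h2 : p ≠ 2) (S : Type) [Group S] [Finite S] [IsSimpleGroup S]
    (h : Cfsg.Spor.IsoRu S) (ih : IH p (Nat.card S)) : NB p S := by
  have hh := h
  obtain ⟨e⟩ := h
  have e' := e.trans Cfsg.Agent.RuLat.Main.equiv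
  have := finite_H
  have hcS : Nat.card S = Nat.card RuOrder.H := Nat.card_congr e'.toEquiv
  by_cases hd : p ∣ Nat.card S
  swap
  · exact NB.of_not_dvd hd
  have him : IM p S := im_ru hh hd
  have hsim : IsSimpleGroup RuOrder.H := e'.symm.isSimpleGroup
  have ih' : IH p (Nat.card RuOrder.H) := by rwa [← hcS]
  rw [SporadicB.RuOrder.card_H] at hcS
  rw [hcS] at hd
  have hpr := hp.out
  have h5 : p ∣ 2 ^ 14 * 3 ^ 3 * 5 ^ 3 * 7 * 13 * 29 := by
    norm_num
    exact hd
  have key : p = 2 ∨ p = 3 ∨ p = 5 ∨ p = 7 ∨ p = 13 ∨ p = 29 := by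
    have two {q : ℕ} (hq : q.Prime) {k : ℕ} (h : p ∣ q ^ k) : p = q :=
      (Nat.prime_dvd_prime_iff_eq hpr hq).1 (hpr.dvd_of_dvd_pow h)
    rcases hpr.dvd_mul.1 h5 with h5 | h5
    · rcases hpr.dvd_mul.1 h5 with h5 | h5
      · rcases hpr.dvd_mul.1 h5 with h5 | h5
        · rcases hpr.dvd_mul.1 h5 with h5 | h5
          · rcases hpr.dvd_mul.1 h5 with h5 | h5
            · exact Or.inl (two (by norm_num) h5)
            · exact Or.inr (Or.inl (two (by norm_num) h5))
          · exact Or.inr (Or.inr (Or.inl (two (by norm_num) h5)))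
        · exact Or.inr (Or.inr (Or.inr (Or.inl (two (k := 1) (by norm_num) (by simpa using h5)))))
      · exact Or.inr (Or.inr (Or.inr (Or.inr (Or.inl (two (k := 1) (by norm_num) (by simpa using h5))))))
    · exact Or.inr (Or.inr (Or.inr (Or.inr (Or.inr (two (k := 1) (by norm_num) (by simpa using h5))))))
  rcases key with rfl | rfl | rfl | rfl | rfl | rfl
  · exact absurd rfl h2
  · exact NB.iso e'.symm (nb3 ih')
  · exact NB.iso e'.symm (nb5 ih')
  · exact NB_of_IM him (by rw [hcS]; norm_num)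
  · exact NB_of_IM him (by rw [hcS]; norm_num)
  · exact NB_of_IM him (by rw [hcS]; norm_num)

end Cfsg.Agent.H536.NB.Ru
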