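import Cfsg.Agent.CpAutSuz.ThreeC
import Cfsg.Agent.H852.IMSuz
import Cfsg.Agent.H536.NB.Rows

/-!
# `Suz` has a nonprincipal `p`-block, `p` odd (helper536)

`p = 3`: `C(E) / E = A₆`, `E` of order 9. `p = 5`: an element of order 15. `p = 7, 11, 13`: Itô-Michler.
-/

set_option autoImplicit false

namespace Cfsg.Agent.H536.NB.Suz

open Cfsg Subgroup Cfsg.Spor Cfsg.Agent.H33 Cfsg.Agent.H7.NBp Cfsg.Agent.H718.NBIH
open Cfsg.Agent.H536.NB.Tools Cfsg.Agent.H536.NB.Rows
open Cfsg.Agent.CpAutSuz.ThreeC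
open Cfsg.Agent.PreUniq.Spor.SuzP
open Cfsg.Agent.BpSpor

theorem card_suz : Nat.card Suz = 448345497600 :=
  OrdDiv.table_spor Spor.Suz (.suz, 448345497600) (by decide +kernel) ⟨MulEquiv.refl _⟩

theorem nb_three (ih : IH 3 (Nat.card Suz)) [Fact (Nat.Prime 3)] : NB 3 Suz := by
  have := finSuz
  refine NB.of_centralizer E isPGroup_E ?_
  change NB 3 X
  have hs := simple_X
  refine NB.of_surjective (QuotientGroup.mk' (E.subgroupOf X)) (QuotientGroup.mk'_surjective _) ?_
    (ih.use (not_comm_of_four ?_) ?_)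
  · rw [QuotientGroup.ker_mk']
    intro e he
    rw [mem_center_iff]
    intro g
    exact Subtype.ext (comm_X g.2 (mem_subgroupOf.1 he)).symm
  · rw [card_quot]; norm_num
  · rw [card_quot, card_suz]; norm_num

theorem nb_five [IsSimpleGroup Suz] (ih : IH 5 (Nat.card Suz)) [Fact (Nat.Prime 5)] : NB 5 Suz := by
  have := finSuz
  have h3 : Fact (Nat.Prime 3) := ⟨Nat.prime_three⟩
  obtain ⟨y, hy⟩ := exists_prime_orderOf_dvd_card' (G := X) 5 (by rw [card_X]; norm_num)
  obtain ⟨z, hz⟩ := exists_prime_orderOf_dvd_card' (G := E) 3 (by rw [card_E]; norm_num)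
  refine H978.NB.nb_of_commute (y := (y : Suz)) (z := (z : Suz)) (r := 3) (a := 2) (not_comm_of_four ?_) ih ?_
    Nat.prime_three (by norm_num) ?_ (comm_X y.2 z.2) ?_ ?_
  · rw [card_suz]; norm_num
  · rw [Subgroup.orderOf_coe, hy]
  · rw [Subgroup.orderOf_coe, hz]
  · intro h
    have h1 := h.trans (card_subgroup_dvd_card _)
    rw [card_suz] at h1
    norm_num at h1
  · intro j h1 h2
    obtain rfl : j = 1 := by omega
    norm_num

/-- **`Suz` has a nonprincipal `p`-block, `p` odd.** -/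
theorem nb_suz {p : ℕ} [hp : Fact p.Prime] (h2 : p ≠ 2) (S : Type) [Group S] [Finite S] [IsSimpleGroup S]
    (h : Cfsg.Spor.IsoSuz S) (ih : IH p (Nat.card S)) : NB p S := by
  have hh := h
  obtain ⟨e⟩ := h
  have hcS : Nat.card S = 448345497600 := by rw [Nat.card_congr e.toEquiv]; exact card_suz
  by_cases hd : p ∣ Nat.card S
  swap
  · exact NB.of_not_dvd hd
  have him : IM p S := H852.IMSuz.im_suz hh hd
  have hm := H852.IMSuz.prime_cases' hp.out [2, 3, 5, 7, 11, 13] (by decide) 13 hd (by rw [hcS]; norm_num)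
  have hsim : IsSimpleGroup Suz := e.symm.isSimpleGroup
  have ih' : IH p (Nat.card Suz) := by rwa [card_suz, ← hcS]
  simp only [List.mem_cons, List.not_mem_nil, or_false] at hm
  rcases hm with rfl | rfl | rfl | rfl | rfl | rfl
  · exact absurd rfl h2
  · exact NB.iso e.symm (nb_three ih')
  · exact NB.iso e.symm (nb_five ih')
  · exact NB_of_IM him (by rw [hcS]; norm_num)
  · exact NB_of_IM him (by rw [hcS]; norm_num)
  · exact NB_of_IM him (by rw [hcS]; norm_num)

end Cfsg.Agent.H536.NB.Suz
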